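import Cfsg.Agent.Lib.SLFour.SmallLines

/-!
The stabiliser of four lines over the field of order five normalises a symplectic-type 2-group.
-/

set_option autoImplicit false
set_option maxHeartbeats 2000000
set_option synthInstance.maxHeartbeats 200000

namespace Cfsg.Agent.Lib.SLFour.Five

open Cfsg.Geo
open scoped Matrix

/-- The identity and the three double transpositions. -/
abbrev Klein (τ : Equiv.Perm (Fin 4)) : Prop := Equiv.Perm.sign τ = 1 ∧ τ * τ = 1

theorem klein_mul : ∀ τ π : Equiv.Perm (Fin 4), Klein τ → Klein π → Klein (τ * π) := by decide +kernel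

theorem klein_conj (π τ : Equiv.Perm (Fin 4)) (h : Klein τ) : Klein (π * τ * π⁻¹) := by
  refine ⟨by simp [h.1, mul_comm], ?_⟩
  rw [show π * τ * π⁻¹ * (π * τ * π⁻¹) = π * (τ * τ) * π⁻¹ by group, h.2, mul_one, mul_inv_cancel]

theorem klein_cases : ∀ τ : Equiv.Perm (Fin 4), Klein τ → τ = 1 ∨
    τ = Equiv.swap 0 1 * Equiv.swap 2 3 ∨ τ = Equiv.swap 0 2 * Equiv.swap 1 3 ∨
    τ = Equiv.swap 0 3 * Equiv.swap 1 2 := by decide +kernel

theorem klein_transitive : ∀ i : Fin 4, ∃ τ : Equiv.Perm (Fin 4), Klein τ ∧ τ i = 0 := by decide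

theorem klein_fixed : ∀ τ : Equiv.Perm (Fin 4), Klein τ → ∀ i, τ i = i → τ = 1 := by decide

theorem klein_card : Fintype.card {τ : Equiv.Perm (Fin 4) // Klein τ} = 4 := by decide

theorem klein_apply_apply {τ : Equiv.Perm (Fin 4)} (h : Klein τ) (i : Fin 4) : τ (τ i) = i := by
  rw [← Equiv.Perm.mul_apply, h.2, Equiv.Perm.one_apply]

/-- The scalars attached to an element of the group: constant square, product one. -/
structure Good {F : Type*} [Field F] (d : Fin 4 → F) : Prop where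
  sq : ∀ i, d i * d i = d 0 * d 0
  prod : ∏ i, d i = 1

variable {F : Type*} [Field F]

theorem Good.ne_zero {d : Fin 4 → F} (h : Good d) (i : Fin 4) : d i ≠ 0 := fun e => by
  have := h.prod
  rw [Finset.prod_eq_zero (Finset.mem_univ i) e] at this
  exact zero_ne_one this

theorem pair_const {s : Fin 4 → F} (hs : ∀ i, s i * s i = 1) (hp : ∏ i, s i = 1)
    {τ : Equiv.Perm (Fin 4)} (hτ : Klein τ) (i : Fin 4) : s (τ i) * s i = s (τ 0) * s 0 := by
  rw [Fin.prod_univ_four] at hp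
  have key : ∀ {x y : F}, x * y = 1 → y * y = 1 → x = y := fun {x y} h1 h2 => by
    linear_combination y * h1 - x * h2
  have k1 : s 0 * s 1 = s 2 * s 3 := key (by linear_combination hp)
    (by linear_combination (s 3 * s 3) * hs 2 + hs 3)
  have k2 : s 0 * s 2 = s 1 * s 3 := key (by linear_combination hp)
    (by linear_combination (s 3 * s 3) * hs 1 + hs 3)
  have k3 : s 0 * s 3 = s 1 * s 2 := key (by linear_combination hp)
    (by linear_combination (s 2 * s 2) * hs 1 + hs 2)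
  rcases klein_cases τ hτ with rfl | rfl | rfl | rfl
  · rw [Equiv.Perm.one_apply, Equiv.Perm.one_apply, hs, hs]
  all_goals fin_cases i <;>
    simp [Equiv.Perm.mul_apply, Equiv.swap_apply_def] <;>
    first
      | ring1
      | linear_combination -k1
      | linear_combination -k2
      | linear_combination -k3
      | linear_combination k1
      | linear_combination k2
      | linear_combination k3

variable (b : Module.Basis (Fin 4) F (Fin 4 → F))

/-- `g` acts monomially on the basis `b`. -/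
def Mono (g : GL (Fin 4) F) (τ : Equiv.Perm (Fin 4)) (d : Fin 4 → F) : Prop :=
  ∀ i, (g : Matrix (Fin 4) (Fin 4) F) *ᵥ b i = d i • b (τ i)

variable {b}

theorem gl_ext {g h : GL (Fin 4) F}
    (e : ∀ i, (g : Matrix (Fin 4) (Fin 4) F) *ᵥ b i = (h : Matrix (Fin 4) (Fin 4) F) *ᵥ b i) :
    g = h := by
  apply Units.ext
  apply Matrix.toLin'.injective
  exact b.ext fun i => by simp only [Matrix.toLin'_apply]; exact e i

theorem mulVec_mul (g h : GL (Fin 4) F) (v : Fin 4 → F) :
    ((g * h : GL (Fin 4) F) : Matrix (Fin 4) (Fin 4) F) *ᵥ v =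
      (g : Matrix (Fin 4) (Fin 4) F) *ᵥ ((h : Matrix (Fin 4) (Fin 4) F) *ᵥ v) := by
  rw [Units.val_mul, Matrix.mulVec_mulVec]

theorem Mono.mul {g h : GL (Fin 4) F} {τ π : Equiv.Perm (Fin 4)} {d e : Fin 4 → F}
    (hg : Mono b g τ d) (hh : Mono b h π e) : Mono b (g * h) (τ * π) (fun i => d (π i) * e i) :=
  fun i => by rw [mulVec_mul, hh i, Matrix.mulVec_smul, hg, smul_smul, mul_comm, Equiv.Perm.mul_apply]

theorem Mono.inv {g : GL (Fin 4) F} {τ : Equiv.Perm (Fin 4)} {d : Fin 4 → F}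
    (hg : Mono b g τ d) (hd : ∀ i, d i ≠ 0) : Mono b g⁻¹ τ⁻¹ (fun i => (d (τ⁻¹ i))⁻¹) := by
  intro i
  have h1 := hg (τ⁻¹ i)
  rw [← Equiv.Perm.mul_apply, mul_inv_cancel, Equiv.Perm.one_apply] at h1
  have h2 := congrArg (fun w => ((g⁻¹ : GL (Fin 4) F) : Matrix (Fin 4) (Fin 4) F) *ᵥ w) h1
  simp only [← mulVec_mul, inv_mul_cancel, Units.val_one, Matrix.one_mulVec,
    Matrix.mulVec_smul] at h2
  rw [h2, smul_smul, inv_mul_cancel₀ (hd _), one_smul]

theorem Mono.unique {g : GL (Fin 4) F} {τ π : Equiv.Perm (Fin 4)} {d e : Fin 4 → F}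
    (hd : ∀ i, d i ≠ 0) (hg : Mono b g τ d) (hg' : Mono b g π e) : τ = π ∧ d = e := by
  have key : ∀ i, τ i = π i ∧ d i = e i := fun i => by
    have h := congrArg (fun w => b.repr w (τ i)) ((hg i).symm.trans (hg' i))
    simp only [map_smul, Finsupp.smul_apply, Module.Basis.repr_self, smul_eq_mul] at h
    by_cases hp : π i = τ i
    · rw [hp] at h
      simp only [Finsupp.single_eq_same, mul_one] at h
      exact ⟨hp.symm, h⟩
    · rw [Finsupp.single_eq_same, mul_one, Finsupp.single_eq_of_ne (Ne.symm hp), mul_zero] at h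
      exact absurd h (hd i)
  exact ⟨Equiv.ext fun i => (key i).1, funext fun i => (key i).2⟩

theorem exists_gl (L : (Fin 4 → F) ≃ₗ[F] (Fin 4 → F)) :
    ∃ g : GL (Fin 4) F, ∀ v, (g : Matrix (Fin 4) (Fin 4) F) *ᵥ v = L v := by
  refine ⟨⟨LinearMap.toMatrix' L.toLinearMap, LinearMap.toMatrix' L.symm.toLinearMap, ?_, ?_⟩,
    fun v => LinearMap.toMatrix'_mulVec L.toLinearMap v⟩ <;>
  · rw [← LinearMap.toMatrix'_comp, ← LinearMap.toMatrix'_id]
    congr 1
    ext v
    simp

variable (b) in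
theorem exists_mono (τ : Equiv.Perm (Fin 4)) (d : Fin 4 → F) (hd : ∀ i, d i ≠ 0) :
    ∃ g : GL (Fin 4) F, Mono b g τ d := by
  obtain ⟨g, hg⟩ := exists_gl
    (b.equiv ((b.reindex τ.symm).unitsSMul fun i => Units.mk0 (d i) (hd i)) (Equiv.refl _))
  exact ⟨g, fun i => by rw [hg, Module.Basis.equiv_apply]; simp [Module.Basis.unitsSMul_apply, Units.smul_def]⟩

variable (b) in
/-- The symplectic-type group attached to the basis. -/
def rgp : Subgroup (GL (Fin 4) F) where
  carrier := {g | ∃ τ d, Klein τ ∧ Good d ∧ Mono b g τ d}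
  mul_mem' {g h} hg hh := by
    obtain ⟨τ, d, hτ, hd, hg⟩ := hg
    obtain ⟨π, e, hπ, he, hh⟩ := hh
    refine ⟨_, _, klein_mul τ π hτ hπ, ⟨fun i => ?_, ?_⟩, hg.mul hh⟩
    · linear_combination (e i * e i) * hd.sq (π i) + (d 0 * d 0) * he.sq i -
        (e 0 * e 0) * hd.sq (π 0)
    · rw [Finset.prod_mul_distrib, Equiv.prod_comp π d, hd.prod, he.prod, one_mul]
  one_mem' := ⟨1, fun _ => 1, ⟨by simp, by simp⟩, ⟨fun _ => rfl, by simp⟩, fun i => by simp⟩
  inv_mem' {g} hg := by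
    obtain ⟨τ, d, hτ, hd, hg⟩ := hg
    refine ⟨_, _, ⟨by simp [hτ.1], by rw [← mul_inv_rev, hτ.2, inv_one]⟩, ⟨fun i => ?_, ?_⟩,
      hg.inv hd.ne_zero⟩
    · rw [← mul_inv, ← mul_inv, hd.sq, hd.sq (τ⁻¹ 0)]
    · rw [Finset.prod_inv_distrib, Equiv.prod_comp τ⁻¹ d, hd.prod, inv_one]

theorem mem_rgp {g : GL (Fin 4) F} :
    g ∈ rgp b ↔ ∃ τ d, Klein τ ∧ Good d ∧ Mono b g τ d := Iff.rfl

variable [Fintype F] (hq : Fintype.card F = 5)
include hq

theorem pow_four {a : F} (ha : a ≠ 0) : a * a * (a * a) = 1 := by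
  have := FiniteField.pow_card_sub_one_eq_one a ha
  rw [hq] at this
  linear_combination this

theorem charP_five : CharP F 5 := by
  obtain ⟨p, hp⟩ := CharP.exists F
  obtain ⟨n, hpp, hn⟩ := FiniteField.card F p
  have h5 : p ∣ 5 := by rw [← hq, hn]; exact dvd_pow_self p n.ne_zero
  obtain rfl := (Nat.prime_dvd_prime_iff_eq hpp (by norm_num)).1 h5
  exact hp

theorem small_ne_zero {k : ℕ} (h : ¬ 5 ∣ k) : (k : F) ≠ 0 := by
  haveI := charP_five hq
  rwa [Ne, CharP.cast_eq_zero_iff F 5]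

theorem two_ne : (2 : F) ≠ 0 := by
  have := small_ne_zero (F := F) hq (k := 2) (by norm_num)
  simpa using this

theorem good_const {c : F} (hc : c ≠ 0) : Good (fun _ : Fin 4 => c) :=
  ⟨fun _ => rfl, by rw [Fin.prod_univ_four]; linear_combination pow_four hq hc⟩

/-- A monomial element with scalars of product `±1` normalises the group. -/
theorem conj_mem {h : GL (Fin 4) F} {π : Equiv.Perm (Fin 4)} {a : Fin 4 → F}
    (ha : ∀ i, a i ≠ 0) (hh : Mono b h π a) (hp : (∏ i, a i) * ∏ i, a i = 1)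
    {g : GL (Fin 4) F} {τ : Equiv.Perm (Fin 4)} {d : Fin 4 → F} (hτ : Klein τ) (hd : Good d)
    (hg : Mono b g τ d) :
    h * g * h⁻¹ ∈ rgp b ∧ Mono b (h * g * h⁻¹) (π * τ * π⁻¹)
      (fun j => a (τ (π⁻¹ j)) * d (π⁻¹ j) * (a (π⁻¹ j))⁻¹) := by
  have hm := (hh.mul hg).mul (hh.inv ha)
  refine ⟨⟨_, _, klein_conj π τ hτ, ⟨fun j => ?_, ?_⟩, hm⟩, hm⟩
  · have hs : ∀ i, (fun i => a i * a i) i * (fun i => a i * a i) i = 1 := fun i => pow_four hq (ha i)
    have hsp : ∏ i, (fun i => a i * a i) i = 1 := by rw [Finset.prod_mul_distrib, hp]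
    have hinv : ∀ i, (a i)⁻¹ * (a i)⁻¹ = a i * a i := fun i => by
      rw [← mul_inv, inv_eq_of_mul_eq_one_right (hs i)]
    have h1 := pair_const hs hsp hτ (π⁻¹ j)
    have h2 := pair_const hs hsp hτ (π⁻¹ (0 : Fin 4))
    calc a (τ (π⁻¹ j)) * d (π⁻¹ j) * (a (π⁻¹ j))⁻¹ * (a (τ (π⁻¹ j)) * d (π⁻¹ j) * (a (π⁻¹ j))⁻¹)
        = (a (τ (π⁻¹ j)) * a (τ (π⁻¹ j))) * ((a (π⁻¹ j))⁻¹ * (a (π⁻¹ j))⁻¹) *
            (d (π⁻¹ j) * d (π⁻¹ j)) := by ring
      _ = (a (τ (π⁻¹ 0)) * a (τ (π⁻¹ 0))) * ((a (π⁻¹ 0))⁻¹ * (a (π⁻¹ 0))⁻¹) *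
            (d (π⁻¹ 0) * d (π⁻¹ 0)) := by rw [hinv, hinv, h1, h2, hd.sq (π⁻¹ j), hd.sq (π⁻¹ 0)]
      _ = _ := by ring
  · simp only [Finset.prod_mul_distrib, Finset.prod_inv_distrib, Equiv.prod_comp π⁻¹ a,
      Equiv.prod_comp π⁻¹ d, hd.prod, mul_one]
    rw [show ∏ x, a (τ (π⁻¹ x)) = ∏ x, a x from Equiv.prod_comp (τ * π⁻¹) a,
      mul_inv_cancel₀ (Finset.prod_ne_zero_iff.2 fun i _ => ha i)]

theorem card_units_four : Nat.card Fˣ = 4 := by rw [Nat.card_units, Nat.card_eq_fintype_card, hq]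

theorem irreducible : ActsAbsolutelyIrreducibly (matrixSet (rgp b)) := by
  have sgn : ∀ d : Fin 4 → F, Good d → ∃ g ∈ rgp b, Mono b g 1 d := fun d hd => by
    obtain ⟨g, hg⟩ := exists_mono b 1 d hd.ne_zero
    exact ⟨g, ⟨1, d, ⟨by simp, by simp⟩, hd, hg⟩, hg⟩
  obtain ⟨z1, hz1R, hz1⟩ := sgn ![1, -1, 1, -1]
    ⟨fun i => by fin_cases i <;> simp, by simp [Fin.prod_univ_four]⟩
  obtain ⟨z2, hz2R, hz2⟩ := sgn ![1, 1, -1, -1]
    ⟨fun i => by fin_cases i <;> simp, by simp [Fin.prod_univ_four]⟩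
  have trans0 : ∀ i, ∃ g ∈ rgp b, ∃ τ, Klein τ ∧ τ i = 0 ∧ Mono b g τ (fun _ => 1) := fun i => by
    obtain ⟨τ, hτ, hi⟩ := klein_transitive i
    obtain ⟨g, hg⟩ := exists_mono b τ (fun _ => (1 : F)) fun _ => one_ne_zero
    exact ⟨g, ⟨τ, _, hτ, good_const hq one_ne_zero, hg⟩, τ, hτ, hi, hg⟩
  have repr_mono : ∀ {g : GL (Fin 4) F} {τ : Equiv.Perm (Fin 4)} {d : Fin 4 → F}, Mono b g τ d →
      ∀ v i, b.repr ((g : Matrix (Fin 4) (Fin 4) F) *ᵥ v) (τ i) = d i * b.repr v i := by
    intro g τ d hg v i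
    have h4 : (g : Matrix (Fin 4) (Fin 4) F) *ᵥ v = ∑ j, (d j * b.repr v j) • b (τ j) := by
      conv_lhs => rw [← b.sum_repr v]
      rw [Matrix.mulVec_sum]
      exact Finset.sum_congr rfl fun j _ => by rw [Matrix.mulVec_smul, hg j, smul_smul, mul_comm]
    rw [h4, map_sum, Finsupp.finsetSum_apply, Finset.sum_eq_single i]
    · simp
    · intro j _ hj
      simp [hj]
    · simp
  have h2 := two_ne (F := F) hq
  refine ⟨fun W hW => ?_, fun M hM => ?_⟩
  · have inv : ∀ g ∈ rgp b, ∀ v ∈ W, (g : Matrix (Fin 4) (Fin 4) F) *ᵥ v ∈ W := fun g hg v hv => by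
      rw [← Matrix.toLin'_apply]
      exact hW _ ⟨g, hg, rfl⟩ (Submodule.mem_map_of_mem hv)
    by_cases hb0 : W = ⊥
    · exact Or.inl hb0
    refine Or.inr (eq_top_iff.2 ?_)
    obtain ⟨v, hv, hv0⟩ := Submodule.exists_mem_ne_zero_of_ne_bot hb0
    obtain ⟨i, hi⟩ : ∃ i, b.repr v i ≠ 0 := by
      by_contra hcon
      push Not at hcon
      exact hv0 (b.repr.injective (by ext i; simp [hcon i]))
    obtain ⟨g, hgR, τ, -, hτi, hg⟩ := trans0 i
    set w := (g : Matrix (Fin 4) (Fin 4) F) *ᵥ v with hw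
    have hw0 : b.repr w 0 ≠ 0 := by rw [hw, ← hτi, repr_mono hg, one_mul]; exact hi
    set w1 := w + (z1 : Matrix (Fin 4) (Fin 4) F) *ᵥ w with hw1
    set w2 := w1 + (z2 : Matrix (Fin 4) (Fin 4) F) *ᵥ w1 with hw2
    have hwW : w2 ∈ W := by
      have h := inv g hgR v hv
      have h1 : w1 ∈ W := add_mem h (inv z1 hz1R _ h)
      exact add_mem h1 (inv z2 hz2R _ h1)
    have r1 : ∀ x j, b.repr ((z1 : Matrix (Fin 4) (Fin 4) F) *ᵥ x) j =
        ![1, -1, 1, -1] j * b.repr x j := fun x j => by simpa using repr_mono hz1 x j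
    have r2 : ∀ x j, b.repr ((z2 : Matrix (Fin 4) (Fin 4) F) *ᵥ x) j =
        ![1, 1, -1, -1] j * b.repr x j := fun x j => by simpa using repr_mono hz2 x j
    have he : w2 = (2 * 2 * b.repr w 0) • b 0 := by
      apply b.repr.injective
      ext j
      simp only [hw2, hw1, map_add, Finsupp.add_apply, r1, r2, map_smul, Finsupp.smul_apply,
        Module.Basis.repr_self, smul_eq_mul]
      fin_cases j <;> simp <;> ring
    have hb : b 0 ∈ W := by
      have := W.smul_mem (2 * 2 * b.repr w 0)⁻¹ hwW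
      rwa [he, smul_smul, inv_mul_cancel₀ (mul_ne_zero (mul_ne_zero h2 h2) hw0), one_smul] at this
    rw [← b.span_eq, Submodule.span_le]
    rintro x ⟨j, rfl⟩
    obtain ⟨g', hg'R, τ', hτ', hτ'j, hg'⟩ := trans0 j
    have := inv g' hg'R _ hb
    rwa [hg', one_smul, ← hτ'j, klein_apply_apply hτ'] at this
  · have comm : ∀ g ∈ rgp b, ∀ x, M *ᵥ ((g : Matrix (Fin 4) (Fin 4) F) *ᵥ x) =
        (g : Matrix (Fin 4) (Fin 4) F) *ᵥ (M *ᵥ x) := fun g hg x => by
      rw [Matrix.mulVec_mulVec, Matrix.mulVec_mulVec, hM _ ⟨g, hg, rfl⟩]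
    set c := b.repr (M *ᵥ b 0) 0 with hc
    have hM0 : M *ᵥ b 0 = c • b 0 := by
      apply b.repr.injective
      ext j
      have e1 := congrArg (fun x => b.repr x j) (comm z1 hz1R (b 0))
      have e2 := congrArg (fun x => b.repr x j) (comm z2 hz2R (b 0))
      have r1 : b.repr ((z1 : Matrix (Fin 4) (Fin 4) F) *ᵥ (M *ᵥ b 0)) j =
          ![1, -1, 1, -1] j * b.repr (M *ᵥ b 0) j := by simpa using repr_mono hz1 (M *ᵥ b 0) j
      have r2 : b.repr ((z2 : Matrix (Fin 4) (Fin 4) F) *ᵥ (M *ᵥ b 0)) j =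
          ![1, 1, -1, -1] j * b.repr (M *ᵥ b 0) j := by simpa using repr_mono hz2 (M *ᵥ b 0) j
      simp only [hz1 0, hz2 0, Matrix.cons_val_zero, one_smul, Equiv.Perm.one_apply, r1, r2] at e1 e2
      simp only [map_smul, Finsupp.smul_apply, Module.Basis.repr_self, smul_eq_mul]
      fin_cases j <;> simp at e1 e2 ⊢
      · exact hc.symm
      · exact (mul_eq_zero.1 (show (2 : F) * _ = 0 by linear_combination e1)).resolve_left h2
      · exact (mul_eq_zero.1 (show (2 : F) * _ = 0 by linear_combination e2)).resolve_left h2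
      · exact (mul_eq_zero.1 (show (2 : F) * _ = 0 by linear_combination e1)).resolve_left h2
    refine ⟨c, ?_⟩
    apply Matrix.toLin'.injective
    refine b.ext fun j => ?_
    simp only [Matrix.toLin'_apply, Matrix.smul_mulVec, Matrix.one_mulVec]
    obtain ⟨g, hgR, τ, hτ, hτj, hg⟩ := trans0 j
    have := comm g hgR (b 0)
    rwa [hM0, Matrix.mulVec_smul, hg, one_smul, ← hτj, klein_apply_apply hτ] at this

theorem scalar_mem (u : Fˣ) :
    Units.map (Matrix.scalar (Fin 4) : F →+* Matrix (Fin 4) (Fin 4) F).toMonoidHom u ∈ rgp b :=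
  ⟨1, fun _ => (u : F), ⟨by simp, by simp⟩, good_const hq u.ne_zero, fun i => by
    simp [← Matrix.smul_one_eq_diagonal, Matrix.smul_mulVec]⟩

theorem center_card : Nat.card (Subgroup.center (rgp b)) = 4 := by
  let f : Fˣ → Subgroup.center (rgp b) := fun u => ⟨⟨_, scalar_mem hq u⟩,
    Subgroup.mem_center_iff.2 fun g => Subtype.ext (Units.ext (by
      simp [← Matrix.smul_one_eq_diagonal]))⟩
  rw [← Nat.card_eq_of_bijective f ⟨fun u v h => ?_, fun z => ?_⟩, card_units_four hq]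
  · have := congrArg (fun z : Subgroup.center (rgp b) =>
      ((z : rgp b) : GL (Fin 4) F).1 0 0) h
    exact Units.ext (by simpa [f] using this)
  · obtain ⟨c, hc⟩ := (irreducible (b := b) hq).2 ((z : rgp b) : GL (Fin 4) F).1 fun s hs => by
      obtain ⟨g, hg, rfl⟩ := hs
      have := congrArg (fun x : rgp b => (x : GL (Fin 4) F).1)
        (Subgroup.mem_center_iff.1 z.2 ⟨g, hg⟩)
      simpa using this.symm
    have hc0 : c ≠ 0 := fun e => by
      have := ((z : rgp b) : GL (Fin 4) F).mul_inv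
      rw [hc, e, zero_smul, zero_mul] at this
      exact zero_ne_one this
    exact ⟨Units.mk0 c hc0, Subtype.ext (Subtype.ext (Units.ext (by
      simp [f, hc, ← Matrix.smul_one_eq_diagonal])))⟩

theorem rgp_card : Nat.card (rgp b) = 64 := by
  classical
  let d : Fˣ → Bool → Bool → Fin 4 → F := fun u x y =>
    ![(u : F), (if x then 1 else -1) * u, (if y then 1 else -1) * u,
      (if x then 1 else -1) * (if y then 1 else -1) * u]
  have hd : ∀ u x y, Good (d u x y) := fun u x y => by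
    refine ⟨fun i => ?_, ?_⟩
    · fin_cases i <;> cases x <;> cases y <;> simp [d]
    · rw [Fin.prod_univ_four]
      cases x <;> cases y <;> simp [d] <;> linear_combination pow_four hq u.ne_zero
  choose g hg using fun (p : {τ : Equiv.Perm (Fin 4) // Klein τ} × Fˣ × Bool × Bool) =>
    exists_mono b p.1.1 (d p.2.1 p.2.2.1 p.2.2.2) (hd _ _ _).ne_zero
  let G : {τ : Equiv.Perm (Fin 4) // Klein τ} × Fˣ × Bool × Bool → rgp b := fun p =>
    ⟨g p, p.1.1, _, p.1.2, hd _ _ _, hg p⟩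
  have h2 : (1 : F) ≠ -1 := fun e => two_ne (F := F) hq (by linear_combination e)
  rw [← Nat.card_eq_of_bijective G ⟨?_, ?_⟩]
  · rw [Nat.card_prod, Nat.card_prod, Nat.card_prod, Nat.card_eq_fintype_card, klein_card,
      card_units_four hq, Nat.card_eq_fintype_card, Fintype.card_bool]
  · rintro ⟨τ, u, x, y⟩ ⟨π, w, x', y'⟩ h
    have h' : g (τ, u, x, y) = g (π, w, x', y') := congrArg Subtype.val h
    obtain ⟨e1, e2⟩ := Mono.unique (hd u x y).ne_zero (hg (τ, u, x, y)) (h' ▸ hg (π, w, x', y'))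
    obtain rfl : τ = π := Subtype.ext e1
    obtain rfl : u = w := Units.ext (by simpa [d] using congrFun e2 0)
    have ex := congrFun e2 1
    have ey := congrFun e2 2
    simp [d] at ex ey
    have hn : -(u : F) ≠ u := fun e =>
      mul_ne_zero (two_ne (F := F) hq) u.ne_zero (by linear_combination (-1 : F) * e)
    have : x = x' := by cases x <;> cases x' <;> simp_all [hn.symm]
    have : y = y' := by cases y <;> cases y' <;> simp_all [hn.symm]
    simp_all
  · rintro ⟨k, τ, e, hτ, he, hk⟩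
    have hs : ∀ i, e i = 1 * e 0 ∨ e i = -1 * e 0 := fun i => by
      simpa using mul_self_eq_mul_self_iff.1 (he.sq i)
    let sb : Fin 4 → Bool := fun i => decide (e i = e 0)
    have hsb : ∀ i, e i = (if sb i then 1 else -1) * e 0 := fun i => by
      by_cases h : e i = e 0
      · simp [sb, h]
      · rcases hs i with h' | h'
        · exact absurd (h'.trans (one_mul _)) h
        · simp only [sb, h, decide_false, Bool.false_eq_true, if_false]
          exact h'
    refine ⟨(⟨τ, hτ⟩, Units.mk0 _ (he.ne_zero 0), sb 1, sb 2), Subtype.ext (gl_ext (b := b) fun i => ?_)⟩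
    rw [hg _ i, hk i]
    congr 1
    fin_cases i
    · simp [d]
    · simpa [d] using (hsb 1).symm
    · simpa [d] using (hsb 2).symm
    · have hp := he.prod
      rw [Fin.prod_univ_four, hsb 1, hsb 2] at hp
      show (if sb 1 then (1 : F) else -1) * (if sb 2 then 1 else -1) * e 0 = e 3
      set s : F := (if sb 1 then 1 else -1) * (if sb 2 then 1 else -1) with hs'
      have hss : s * s = 1 := by rw [hs']; cases sb 1 <;> cases sb 2 <;> simp
      have hp4 := pow_four hq (he.ne_zero 0)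
      have h3 : s * (e 0 * e 0 * e 0) * e 3 = 1 := by rw [hs']; linear_combination hp
      linear_combination (s * e 0) * h3.symm + (e 3 * e 0 * e 0 * e 0 * e 0) * hss + e 3 * hp4

/-- A matrix normalising the group induces an automorphism preserving characteristic subgroups. -/
theorem char_conj {A : Subgroup (rgp b)} [A.Characteristic] {n : GL (Fin 4) F}
    (hn : ∀ x ∈ rgp b, n * x * n⁻¹ ∈ rgp b) {x : rgp b} (hx : x ∈ A) :
    (⟨n * x * n⁻¹, hn _ x.2⟩ : rgp b) ∈ A := by
  haveI : Finite (rgp b) := inferInstance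
  let f : rgp b →* rgp b :=
    { toFun := fun x => ⟨n * x * n⁻¹, hn _ x.2⟩
      map_one' := Subtype.ext (by simp)
      map_mul' := fun x y => Subtype.ext (by simp [mul_assoc]) }
  have hf : Function.Injective f := fun x y h => Subtype.ext (by
    simpa [f] using congrArg Subtype.val h)
  exact Subgroup.characteristic_iff_le_comap.1 inferInstance
    (MulEquiv.ofBijective f (Finite.injective_iff_bijective.1 hf)) hx

theorem not_diag_of_char {A : Subgroup (rgp b)} [A.Characteristic] {x : rgp b} (hx : x ∈ A)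
    {d : Fin 4 → F} (hd : Good d) (hxd : Mono b (x : GL (Fin 4) F) 1 d) (h2 : d 2 = -d 0) :
    ∃ y ∈ A, ∃ τ e, Klein τ ∧ Good e ∧ τ ≠ 1 ∧ Mono b ((y : rgp b) : GL (Fin 4) F) τ e := by
  let u : Fin 4 → Fin 4 → F := ![![1, 0, 1, 0], ![0, 1, 0, 1], ![1, 0, -1, 0], ![0, 1, 0, -1]]
  let Lm : (Fin 4 → F) →ₗ[F] (Fin 4 → F) := b.constr F ![b 0 + b 2, b 1 + b 3, b 0 - b 2, b 1 - b 3]
  have L : ∀ i, Lm (b i) = ![b 0 + b 2, b 1 + b 3, b 0 - b 2, b 1 - b 3] i := fun i =>
    b.constr_basis F _ i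
  have h22 := two_ne (F := F) hq
  have hLL : ∀ v, Lm (Lm v) = (2 : F) • v := by
    intro v
    suffices h : Lm.comp Lm = (2 : F) • LinearMap.id by simpa using LinearMap.congr_fun h v
    refine b.ext fun i => ?_
    fin_cases i <;> simp [L] <;> module
  obtain ⟨n, hn⟩ := exists_gl (LinearEquiv.ofBijective Lm
    (LinearMap.injective_iff_surjective.symm.trans Iff.rfl |>.mp (fun v => ⟨(2 : F)⁻¹ • Lm v, by
      rw [map_smul, hLL, smul_smul, inv_mul_cancel₀ h22, one_smul]⟩) |> fun hi =>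
      ⟨hi, LinearMap.injective_iff_surjective.1 hi⟩))
  have hn' : ∀ i, (n : Matrix (Fin 4) (Fin 4) F) *ᵥ b i =
      ![b 0 + b 2, b 1 + b 3, b 0 - b 2, b 1 - b 3] i := fun i => by rw [hn]; exact L i
  have good2 : ∀ {e : Fin 4 → F}, Good e → Good ![e 0, e 1, e 0, e 1] := fun {e} he =>
    ⟨fun i => by fin_cases i <;> simp [he.sq 1], by
      rw [Fin.prod_univ_four]
      simp only [Matrix.cons_val_zero, Matrix.cons_val_one, Matrix.cons_val]
      linear_combination (e 0 * e 0) * he.sq 1 + pow_four hq (he.ne_zero 0)⟩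
  set t2 : Equiv.Perm (Fin 4) := Equiv.swap 0 2 * Equiv.swap 1 3 with ht2
  have ht2K : Klein t2 := by rw [ht2]; decide
  -- conjugates of diagonal elements
  have cdiag : ∀ (g : GL (Fin 4) F) (e : Fin 4 → F), Good e → Mono b g 1 e →
      n * g * n⁻¹ ∈ rgp b ∧ (e 2 = -e 0 → Mono b (n * g * n⁻¹) t2 ![e 0, e 1, e 0, e 1]) := by
    intro g e he hg
    have hp := he.prod
    rw [Fin.prod_univ_four] at hp
    rcases mul_self_eq_mul_self_iff.1 (he.sq 2) with h | h
    · have h31 : e 3 = e 1 := by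
        have : e 1 * e 3 * (e 0 * e 0) = e 1 * e 1 * (e 0 * e 0) := by
          rw [he.sq 1]; linear_combination hp - pow_four hq (he.ne_zero 0) - (e 0 * e 1 * e 3) * h
        have h3 := mul_right_cancel₀ (mul_ne_zero (he.ne_zero 0) (he.ne_zero 0)) this
        exact mul_left_cancel₀ (he.ne_zero 1) h3
      refine ⟨?_, fun h' => absurd (h.symm.trans h') ?_⟩
      · have hcomm : n * g = g * n := gl_ext (b := b) fun i => by
          rw [mulVec_mul, mulVec_mul, hg, Matrix.mulVec_smul]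
          fin_cases i <;>
            simp [hn', Matrix.mulVec_add, Matrix.mulVec_sub, hg 0, hg 1, hg 2, hg 3, h, h31] <;>
            module
        rw [hcomm, mul_inv_cancel_right]
        exact ⟨1, e, ⟨by simp, by simp⟩, he, hg⟩
      · intro h0
        exact mul_ne_zero h22 (he.ne_zero 0) (by linear_combination h0)
    · have h31 : e 3 = -e 1 := by
        have : e 1 * e 3 * (e 0 * e 0) = e 1 * (-e 1) * (e 0 * e 0) := by
          linear_combination (-1 : F) * hp + pow_four hq (he.ne_zero 0) +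
            (e 0 * e 1 * e 3) * h + (e 0 * e 0) * he.sq 1
        have h3 := mul_right_cancel₀ (mul_ne_zero (he.ne_zero 0) (he.ne_zero 0)) this
        exact mul_left_cancel₀ (he.ne_zero 1) h3
      obtain ⟨y, hy⟩ := exists_mono b t2 _ (good2 he).ne_zero
      have hyn : n * g = y * n := gl_ext (b := b) fun i => by
        rw [mulVec_mul, mulVec_mul, hg, Matrix.mulVec_smul]
        fin_cases i <;>
          simp [hn', Matrix.mulVec_add, Matrix.mulVec_sub, hy 0, hy 1, hy 2, hy 3, h, h31, ht2,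
            Equiv.swap_apply_def] <;>
          module
      rw [hyn, mul_inv_cancel_right]
      exact ⟨⟨t2, _, ht2K, good2 he, hy⟩, fun _ => hy⟩
  -- conjugates of permutations
  have cperm : ∀ (g : GL (Fin 4) F) (τ : Equiv.Perm (Fin 4)), Klein τ → Mono b g τ (fun _ => 1) →
      n * g * n⁻¹ ∈ rgp b := by
    have k1 : ∀ g : GL (Fin 4) F, Mono b g (Equiv.swap 0 1 * Equiv.swap 2 3) (fun _ => 1) →
        n * g * n⁻¹ ∈ rgp b := fun g hg => by
      have hcomm : n * g = g * n := gl_ext (b := b) fun i => by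
        rw [mulVec_mul, mulVec_mul, hg]
        fin_cases i <;>
          simp [hn', Matrix.mulVec_add, Matrix.mulVec_sub, hg 0, hg 1, hg 2, hg 3,
            Equiv.swap_apply_def]
      rw [hcomm, mul_inv_cancel_right]
      exact ⟨_, _, by decide, good_const hq one_ne_zero, hg⟩
    have k2 : ∀ g : GL (Fin 4) F, Mono b g t2 (fun _ => 1) → n * g * n⁻¹ ∈ rgp b := fun g hg => by
      have hgood : Good ![(1 : F), 1, -1, -1] :=
        ⟨fun i => by fin_cases i <;> simp, by simp [Fin.prod_univ_four]⟩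
      obtain ⟨y, hy⟩ := exists_mono b 1 _ hgood.ne_zero
      have hyn : n * g = y * n := gl_ext (b := b) fun i => by
        rw [mulVec_mul, mulVec_mul, hg]
        fin_cases i <;>
          simp [hn', Matrix.mulVec_add, Matrix.mulVec_sub, hy 0, hy 1, hy 2, hy 3, ht2,
            Equiv.swap_apply_def] <;>
          module
      rw [hyn, mul_inv_cancel_right]
      exact ⟨1, _, ⟨by simp, by simp⟩, hgood, hy⟩
    intro g τ hτ hg
    rcases klein_cases τ hτ with rfl | rfl | rfl | rfl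
    · exact (cdiag g _ (good_const hq one_ne_zero) hg).1
    · exact k1 g hg
    · exact k2 g hg
    · obtain ⟨p, hp⟩ := exists_mono b (Equiv.swap 0 1 * Equiv.swap 2 3) (fun _ => (1 : F))
        fun _ => one_ne_zero
      obtain ⟨q, hq'⟩ := exists_mono b t2 (fun _ => (1 : F)) fun _ => one_ne_zero
      have hgpq : g = p * q := gl_ext (b := b) fun i => by
        rw [hg, hp.mul hq', one_mul, show Equiv.swap (0 : Fin 4) 3 * Equiv.swap 1 2 =
          Equiv.swap 0 1 * Equiv.swap 2 3 * t2 by rw [ht2]; decide]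
      rw [hgpq, show n * (p * q) * n⁻¹ = n * p * n⁻¹ * (n * q * n⁻¹) by group]
      exact mul_mem (k1 p hp) (k2 q hq')
  have hnR : ∀ g ∈ rgp b, n * g * n⁻¹ ∈ rgp b := by
    rintro g ⟨τ, e, hτ, he, hg⟩
    obtain ⟨p, hp⟩ := exists_mono b τ (fun _ => (1 : F)) fun _ => one_ne_zero
    have hpR : p ∈ rgp b := ⟨τ, _, hτ, good_const hq one_ne_zero, hp⟩
    obtain ⟨π, f, hπ, hf, hdg⟩ := mul_mem (inv_mem hpR) (⟨τ, e, hτ, he, hg⟩ : g ∈ rgp b)
    obtain rfl : π = 1 := by
      rw [(Mono.unique hf.ne_zero hdg ((hp.inv fun _ => one_ne_zero).mul hg)).1, inv_mul_cancel]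
    rw [show n * g * n⁻¹ = n * p * n⁻¹ * (n * (p⁻¹ * g) * n⁻¹) by group]
    exact mul_mem (cperm p τ hτ hp) (cdiag _ f hf hdg).1
  exact ⟨_, char_conj hq hnR hx, t2, _, ht2K, good2 hd, by rw [ht2]; decide, (cdiag _ d hd hxd).2 h2⟩

theorem char_abelian_cyclic (A : Subgroup (rgp b)) (hA : A.Characteristic)
    (hAc : IsMulCommutative A) : IsCyclic A := by
  have h2 := two_ne (F := F) hq
  suffices hsc : ∀ x ∈ A, ∃ c : F, ((x : rgp b) : GL (Fin 4) F).1 = c • (1 : Matrix (Fin 4) (Fin 4) F) by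
    let φ : A →* F :=
      { toFun := fun x => ((x : rgp b) : GL (Fin 4) F).1 0 0
        map_one' := by simp
        map_mul' := fun x y => by
          obtain ⟨c, hc⟩ := hsc x x.2
          obtain ⟨c', hc'⟩ := hsc y y.2
          simp [hc, hc', mul_comm] }
    refine isCyclic_of_subgroup_isDomain φ fun x y h => ?_
    obtain ⟨c, hc⟩ := hsc x x.2
    obtain ⟨c', hc'⟩ := hsc y y.2
    have : c = c' := by simpa [φ, hc, hc'] using h
    exact Subtype.ext (Subtype.ext (Units.ext (by rw [hc, hc', this])))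
  have hcomm : ∀ x ∈ A, ∀ y ∈ A, ((x : rgp b) : GL (Fin 4) F) * (y : rgp b) =
      ((y : rgp b) : GL (Fin 4) F) * (x : rgp b) := fun x hx y hy => by
    have := congrArg (fun z : A => ((z : rgp b) : GL (Fin 4) F))
      (hAc.is_comm.comm ⟨x, hx⟩ ⟨y, hy⟩)
    simpa using this
  have normal : ∀ {n : GL (Fin 4) F} {π : Equiv.Perm (Fin 4)} {a : Fin 4 → F}, (∀ i, a i ≠ 0) →
      Mono b n π a → (∏ i, a i) * ∏ i, a i = 1 → ∀ x ∈ rgp b, n * x * n⁻¹ ∈ rgp b := by
    rintro n π a ha hn hp x ⟨τ, d, hτ, hd, hx⟩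
    exact (conj_mem hq ha hn hp hτ hd hx).1
  -- no element of `A` moves the lines
  have diag : ∀ x ∈ A, ∀ τ d, Klein τ → Good d → Mono b ((x : rgp b) : GL (Fin 4) F) τ d → τ = 1 := by
    intro x hx τ d hτ hd hxd
    by_contra hτ1
    have h0 : τ 0 ≠ 0 := fun e => hτ1 (klein_fixed τ hτ 0 e)
    obtain ⟨k, hk0, hkt⟩ : ∃ k : Fin 4, k ≠ 0 ∧ k ≠ τ 0 := by
      generalize τ 0 = j
      revert j
      decide
    let a : Fin 4 → F := fun i => if i = 0 then -1 else 1
    have ha : ∀ i, a i ≠ 0 := fun i => by simp only [a]; split_ifs <;> simp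
    have hap : (∏ i, a i) * ∏ i, a i = 1 := by simp [a, Fin.prod_univ_four]
    obtain ⟨n, hn⟩ := exists_mono b 1 a ha
    obtain ⟨m, hm⟩ := exists_mono b (Equiv.swap (τ 0) k) (fun _ => (1 : F)) fun _ => one_ne_zero
    have hnR := normal ha hn hap
    have hmR := normal (fun _ => one_ne_zero) hm (by simp)
    have hy := mul_mem (char_conj hq hnR hx) (inv_mem hx)
    have hz := char_conj hq hmR hy
    have hδ : Mono b (n * (x : rgp b) * n⁻¹ * ((x : rgp b) : GL (Fin 4) F)⁻¹) 1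
        (fun j => a j * a (τ j)) := by
      intro j
      have h1 := (conj_mem hq ha hn hap hτ hd hxd).2.mul (hxd.inv hd.ne_zero)
      rw [h1 j]
      have e1 : (τ⁻¹ : Equiv.Perm (Fin 4)) j = τ j := by
        rw [Equiv.Perm.inv_eq_iff_eq, klein_apply_apply hτ]
      simp only [inv_one, one_mul, mul_one, Equiv.Perm.one_apply, mul_inv_cancel, e1,
        klein_apply_apply hτ]
      congr 1
      have ha2 : (a (τ j))⁻¹ = a (τ j) := by simp only [a]; split_ifs <;> simp [inv_neg]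
      rw [ha2]
      field_simp [hd.ne_zero (τ j)]
    have hδ' := (hm.mul hδ).mul (hm.inv fun _ => one_ne_zero)
    have e := hcomm _ hz x hx
    simp only [Subgroup.coe_mul, InvMemClass.coe_inv, mul_assoc] at e
    have l1 := (hδ'.mul hxd) 0
    have l2 := (hxd.mul hδ') 0
    simp only [mul_assoc] at l1 l2
    rw [e, l2] at l1
    have hc := l1
    have htk : τ k ≠ 0 := fun e => hkt (by rw [← e, klein_apply_apply hτ])
    simp [a, Equiv.swap_apply_def, h0, hk0, hk0.symm, hkt, hkt.symm, Ne.symm h0, htk,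
      klein_apply_apply hτ] at hc
    have h3 := congrArg (fun w => b.repr w (τ 0)) hc
    simp at h3
    exact mul_ne_zero h2 (hd.ne_zero 0) (by linear_combination (-1 : F) * h3)
  intro x hx
  obtain ⟨τ, d, hτ, hd, hxd⟩ := x.2
  obtain rfl := diag x hx τ d hτ hd hxd
  by_cases hall : ∀ i, d i = d 0
  · refine ⟨d 0, Matrix.toLin'.injective (b.ext fun i => ?_)⟩
    simp [Matrix.toLin'_apply, hxd i, hall i, Matrix.smul_mulVec]
  push Not at hall
  obtain ⟨i, hi⟩ := hall
  have hi0 : i ≠ 0 := fun e => hi (e ▸ rfl)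
  have hid : d i = -d 0 := (mul_self_eq_mul_self_iff.1 (hd.sq i)).resolve_left hi
  obtain ⟨m, hm⟩ := exists_mono b (Equiv.swap i 2) (fun _ => (1 : F)) fun _ => one_ne_zero
  have hmR := normal (fun _ => one_ne_zero) hm (by simp)
  obtain ⟨⟨τ', d', hτ', hd', hxd'⟩, hm'⟩ := conj_mem hq (fun _ => one_ne_zero) hm (by simp) hτ hd hxd
  obtain ⟨e1, e2⟩ := Mono.unique hd'.ne_zero hxd' hm'
  have hd2 : d' 2 = -d' 0 := by
    rw [e2]
    simp [Equiv.swap_inv, Equiv.swap_apply_def, hi0.symm, hid]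
  have e1' : τ' = 1 := by rw [e1, mul_one, mul_inv_cancel]
  subst e1'
  obtain ⟨y, hy, τ'', e, hτ'', he, hne, hye⟩ :=
    not_diag_of_char hq (char_conj hq hmR hx) hd' hxd' hd2
  exact absurd (diag y hy τ'' e hτ'' he hye) hne

theorem exponent_eq : Monoid.exponent (rgp b) = 4 := by
  have h4 : ∀ g : rgp b, g ^ 4 = 1 := by
    rintro ⟨g, τ, d, hτ, hd, hg⟩
    refine Subtype.ext (gl_ext (b := b) fun i => ?_)
    have h := (hg.mul hg).mul (hg.mul hg)
    simp only [SubmonoidClass.coe_pow, OneMemClass.coe_one, Units.val_one, Matrix.one_mulVec]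
    rw [show g ^ 4 = g * g * (g * g) by simp [pow_succ, mul_assoc], h i]
    simp only [Equiv.Perm.mul_apply, klein_apply_apply hτ]
    rw [show d (τ i) * d i * (d (τ i) * d i) = 1 by
      linear_combination (d i * d i) * hd.sq (τ i) + (d 0 * d 0) * hd.sq i +
        pow_four hq (hd.ne_zero 0), one_smul]
  have hdvd : Monoid.exponent (rgp b) ∣ 4 := Monoid.exponent_dvd_of_forall_pow_eq_one h4
  obtain ⟨u, hu⟩ := IsCyclic.exists_generator (α := Fˣ)
  have hu2 : u ^ 2 ≠ 1 := fun e => by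
    have h1 := orderOf_dvd_of_pow_eq_one e
    rw [orderOf_eq_card_of_forall_mem_zpowers hu, card_units_four hq] at h1
    exact absurd h1 (by norm_num)
  have hnot : ¬ Monoid.exponent (rgp b) ∣ 2 := fun h => hu2 (by
    have := congrArg (fun x : rgp b => (x : GL (Fin 4) F).1 0 0)
      (Monoid.exponent_dvd_iff_forall_pow_eq_one.1 h ⟨_, scalar_mem (b := b) hq u⟩)
    exact Units.ext (by simpa [← Matrix.diagonal_pow, pow_two] using this))
  obtain ⟨j, hj, he⟩ := (Nat.dvd_prime_pow Nat.prime_two (m := 2)).1 hdvd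
  interval_cases j
  · exact absurd (he ▸ one_dvd 2) hnot
  · exact absurd (he ▸ dvd_refl 2) hnot
  · simpa using he

theorem data : IsLinearSymplecticTypeData 2 (rgp b) := by
  have hp : IsPGroup 2 (rgp b) := IsPGroup.of_card (n := 6) (by rw [rgp_card hq]; norm_num)
  refine ⟨⟨Nat.prime_two, hp, char_abelian_cyclic hq, by rw [exponent_eq hq]; decide⟩, irreducible hq,
    5, 1, by norm_num, ?_, Or.inr (Or.inl ⟨rfl, rfl, center_card hq, le_of_eq (Fintype.card_fin 4).symm, 2, ?_⟩)⟩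
  · rw [center_card hq]
    exact ⟨by norm_num, charP_five hq, by rw [hq]; norm_num, by norm_num, fun d hd hd' => by omega⟩
  · rw [rgp_card hq]; norm_num

theorem lines_le_normalizer {D : Fin 4 → Submodule F (Fin 4 → F)} (hD : IsMDecomposition 1 D) :
    ∃ R : Subgroup (GL (Fin 4) F), IsLinearSymplecticTypeData 2 R ∧ Nat.card R = 64 ∧
      decompositionStabilizer D ⊓ specialLinear (Fin 4) F ≤ subgroupNormalizer R := by
  obtain ⟨b, hb⟩ := exists_frame hD
  refine ⟨rgp b, data hq, rgp_card hq, fun h hh => ?_⟩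
  have key : ∀ h ∈ decompositionStabilizer D ⊓ specialLinear (Fin 4) F,
      ∀ x ∈ rgp b, h * x * h⁻¹ ∈ rgp b := by
    rintro h ⟨hh, hdet⟩ x ⟨τ, d, hτ, hd, hx⟩
    obtain ⟨π, a, ha, hm, -⟩ := frame_mono hb hh
    refine (conj_mem hq ha hm ?_ hτ hd hx).1
    have h1 : LinearMap.toMatrix b b (Matrix.toLin' (h : Matrix (Fin 4) (Fin 4) F)) =
        (Equiv.Perm.permMatrix F π⁻¹) * Matrix.diagonal a := by
      ext i j
      rw [LinearMap.toMatrix_apply, Matrix.toLin'_apply, hm j, Matrix.mul_diagonal]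
      by_cases hij : π j = i
      · subst hij
        simp [Equiv.Perm.permMatrix, PEquiv.toMatrix_apply]
      · have : π⁻¹ i ≠ j := fun e => hij (by rw [← e]; simp)
        simp [Equiv.Perm.permMatrix, PEquiv.toMatrix_apply, hij, show ¬ π.symm i = j from this]
    have h2 := congrArg Matrix.det h1
    rw [LinearMap.det_toMatrix, LinearMap.det_toLin', Matrix.det_mul, Matrix.det_permutation,
      Matrix.det_diagonal] at h2
    have h3 := congrArg Units.val (MonoidHom.mem_ker.1 hdet)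
    simp only [Matrix.GeneralLinearGroup.val_det_apply, Units.val_one] at h3
    rw [h3] at h2
    have h4 := congrArg (fun z : F => z * z) h2
    rcases Int.units_eq_one_or (Equiv.Perm.sign π⁻¹) with e | e <;> rw [e] at h4 <;>
      simpa using h4.symm
  rw [subgroupNormalizer, Subgroup.mem_normalizer_iff]
  intro x
  refine ⟨key h hh x, fun hx => ?_⟩
  have := key h⁻¹ (inv_mem hh) _ hx
  simpa [mul_assoc] using this

end Cfsg.Agent.Lib.SLFour.Five
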