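import Mathlib
import Cfsg.Prelude.Def_GeometricClasses

/-!
Stabilisers of decompositions of a four-dimensional space over a small field into lines.
-/

set_option autoImplicit false

namespace Cfsg.Agent.Lib.SLFour

open Cfsg.Geo
open scoped Matrix

section Frame

variable {ι : Type} [Fintype ι] [DecidableEq ι] {F : Type*} [Field F]

/-- A basis adapted to a decomposition into lines. -/
theorem exists_frame {t : ℕ} {D : Fin t → Submodule F (ι → F)} (hD : IsMDecomposition 1 D) :
    ∃ b : Module.Basis (Fin t) F (ι → F), ∀ i, D i = Submodule.span F {b i} := by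
  have h : ∀ i, ∃ v : ι → F, v ≠ 0 ∧ D i = Submodule.span F {v} := by
    intro i
    have h1 := hD.finrank_eq i
    have hne : D i ≠ ⊥ := fun e => by rw [e, finrank_bot] at h1; exact one_ne_zero h1.symm
    obtain ⟨v, hv, hv0⟩ := Submodule.exists_mem_ne_zero_of_ne_bot hne
    refine ⟨v, hv0, (Submodule.eq_of_le_of_finrank_eq
      ((Submodule.span_singleton_le_iff_mem _ _).2 hv) ?_).symm⟩
    rw [finrank_span_singleton hv0, h1]
  choose v hv0 hv using h
  have hli : LinearIndependent F v :=
    hD.indep.linearIndependent _ (fun i => (hv i).ge (Submodule.mem_span_singleton_self _)) hv0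
  have hsp : ⊤ ≤ Submodule.span F (Set.range v) := by
    rw [← hD.iSup_eq_top]
    refine iSup_le fun i => ?_
    rw [hv i, Submodule.span_singleton_le_iff_mem]
    exact Submodule.subset_span ⟨i, rfl⟩
  exact ⟨Module.Basis.mk hli hsp, fun i => by rw [Module.Basis.mk_apply]; exact hv i⟩

/-- An element of the stabiliser is monomial on an adapted basis. -/
theorem frame_mono {t : ℕ} {D : Fin t → Submodule F (ι → F)}
    {b : Module.Basis (Fin t) F (ι → F)} (hb : ∀ i, D i = Submodule.span F {b i})
    {g : GL ι F} (hg : g ∈ decompositionStabilizer D) :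
    ∃ (σ : Equiv.Perm (Fin t)) (d : Fin t → F), (∀ i, d i ≠ 0) ∧
      (∀ i, (g : Matrix ι ι F) *ᵥ b i = d i • b (σ i)) ∧
      ∀ v i, b.repr ((g : Matrix ι ι F) *ᵥ v) (σ i) = d i * b.repr v i := by
  obtain ⟨σ, hσ⟩ := hg
  have h : ∀ i, ∃ c : F, c • b (σ i) = (g : Matrix ι ι F) *ᵥ b i := by
    intro i
    have h1 : Matrix.toLin' (g : Matrix ι ι F) (b i) ∈ D (σ i) := by
      rw [← hσ i]
      exact Submodule.mem_map_of_mem ((hb i).ge (Submodule.mem_span_singleton_self _))
    rw [hb (σ i), Submodule.mem_span_singleton] at h1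
    obtain ⟨c, hc⟩ := h1
    exact ⟨c, by rw [hc, Matrix.toLin'_apply]⟩
  choose d hd using h
  refine ⟨σ, d, fun i h0 => ?_, fun i => (hd i).symm, fun v i => ?_⟩
  · have h2 := hd i
    rw [h0, zero_smul] at h2
    have h3 : b i = 0 := by
      have := congrArg (fun w => (((g⁻¹ : GL ι F) : Matrix ι ι F)) *ᵥ w) h2.symm
      simpa [Matrix.mulVec_mulVec, ← Units.val_mul] using this
    exact b.ne_zero i h3
  · have h4 : (g : Matrix ι ι F) *ᵥ v = ∑ j, (d j * b.repr v j) • b (σ j) := by
      conv_lhs => rw [← b.sum_repr v]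
      rw [Matrix.mulVec_sum]
      refine Finset.sum_congr rfl fun j _ => ?_
      rw [Matrix.mulVec_smul, ← hd j, smul_smul, mul_comm]
    rw [h4, ← Equiv.sum_comp σ.symm]
    simp only [Equiv.apply_symm_apply]
    rw [map_sum, Finsupp.finsetSum_apply, Finset.sum_eq_single (σ i)]
    · simp
    · intro j _ hj; simp [hj]
    · simp

end Frame

section Small

variable {F : Type*} [Field F] [Fintype F] {D : Fin 4 → Submodule F (Fin 4 → F)}

theorem le_line_of_card_two (hq : Fintype.card F = 2) (hD : IsMDecomposition 1 D) :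
    ∃ W : Submodule F (Fin 4 → F), W ≠ ⊥ ∧ W ≠ ⊤ ∧
      decompositionStabilizer D ≤ subspaceStabilizer W := by
  obtain ⟨b, hb⟩ := exists_frame hD
  set s : Fin 4 → F := ∑ i, b i with hs
  have hrs : ∀ i, b.repr s i = 1 := fun i => by
    rw [hs, map_sum, Finsupp.finsetSum_apply, Finset.sum_eq_single i]
    · simp
    · intro j _ hj; simp [hj]
    · simp
  have hs0 : s ≠ 0 := fun e => by simpa [e] using hrs 0
  refine ⟨Submodule.span F {s}, by simpa using hs0, fun e => ?_, fun g hg => ?_⟩
  · have h1 := congrArg (fun W : Submodule F (Fin 4 → F) => Module.finrank F W) e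
    simp only [finrank_span_singleton hs0, finrank_top, Module.finrank_fin_fun] at h1
    omega
  · obtain ⟨σ, d, hd0, -, hrep⟩ := frame_mono hb hg
    have hd1 : ∀ i, d i = 1 := fun i => by
      have := FiniteField.pow_card_sub_one_eq_one (d i) (hd0 i)
      simpa [hq] using this
    have hfix : (g : Matrix (Fin 4) (Fin 4) F) *ᵥ s = s := by
      apply b.repr.injective
      ext j
      obtain ⟨i, rfl⟩ := σ.surjective j
      rw [hrep, hd1, hrs, hrs, one_mul]
    intro v
    show v ∈ Submodule.span F {s} ↔ (g : Matrix (Fin 4) (Fin 4) F) *ᵥ v ∈ Submodule.span F {s}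
    simp only [Submodule.mem_span_singleton]
    constructor
    · rintro ⟨c, rfl⟩
      exact ⟨c, by rw [Matrix.mulVec_smul, hfix]⟩
    · rintro ⟨c, hc⟩
      refine ⟨c, ?_⟩
      have := congrArg (fun w => ((g⁻¹ : GL (Fin 4) F) : Matrix (Fin 4) (Fin 4) F) *ᵥ w)
        (show (g : Matrix (Fin 4) (Fin 4) F) *ᵥ (c • s) = (g : Matrix (Fin 4) (Fin 4) F) *ᵥ v by
          rw [Matrix.mulVec_smul, hfix, hc])
      simpa [Matrix.mulVec_mulVec, ← Units.val_mul] using this

theorem le_quad_of_card_three (hq : Fintype.card F = 3) (hD : IsMDecomposition 1 D) :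
    ∃ Q : (Fin 4 → F) → F, IsNondegenerateQuadraticForm Q ∧
      decompositionStabilizer D ≤ quadSimilarityGroup Q := by
  obtain ⟨b, hb⟩ := exists_frame hD
  set Q : (Fin 4 → F) → F := fun v => ∑ i, (b.repr v i) ^ 2 with hQ
  have hpol : ∀ u v, QuadraticMap.polar Q u v = 2 * ∑ i, b.repr u i * b.repr v i := by
    intro u v
    simp only [QuadraticMap.polar, hQ, map_add, Finsupp.add_apply, Finset.mul_sum,
      ← Finset.sum_sub_distrib]
    exact Finset.sum_congr rfl fun i _ => by ring
  have h2 : (2 : F) ≠ 0 := by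
    intro h
    haveI : CharP F 2 := CharTwo.of_one_ne_zero_of_two_eq_zero one_ne_zero h
    obtain ⟨n, -, hn⟩ := FiniteField.card F 2
    rw [hq] at hn
    exact absurd (hn ▸ dvd_pow_self 2 n.ne_zero : 2 ∣ 3) (by norm_num)
  refine ⟨Q, ⟨?_, ?_, ?_⟩, fun g hg => ?_⟩
  · intro c v
    simp only [hQ, map_smul, Finsupp.smul_apply, smul_eq_mul, Finset.mul_sum]
    exact Finset.sum_congr rfl fun i _ => by ring
  · constructor <;> intros <;>
      simp only [hpol, map_add, map_smul, Finsupp.add_apply, Finsupp.smul_apply, smul_eq_mul,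
        add_mul, mul_add, Finset.sum_add_distrib, Finset.mul_sum] <;>
      first | rfl | exact Finset.sum_congr rfl fun i _ => by ring
  · intro v hv
    obtain ⟨i, hi⟩ : ∃ i, b.repr v i ≠ 0 := by
      by_contra hcon
      push Not at hcon
      exact hv (b.repr.injective (by ext i; simp [hcon i]))
    constructor <;> refine ⟨b i, ?_⟩ <;> rw [hpol, Finset.sum_eq_single i] <;>
      first
        | (simpa [h2] using hi)
        | (intro j _ hj; simp [hj])
        | simp
  · obtain ⟨σ, d, hd0, -, hrep⟩ := frame_mono hb hg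
    refine ⟨1, fun v => ?_⟩
    rw [Units.val_one, one_mul, hQ]
    simp only
    rw [← Equiv.sum_comp σ]
    refine Finset.sum_congr rfl fun i _ => ?_
    have hd2 : d i ^ 2 = 1 := by simpa [hq] using FiniteField.pow_card_sub_one_eq_one (d i) (hd0 i)
    rw [hrep, mul_pow, hd2, one_mul]

theorem le_unitary_of_card_four (hq : Fintype.card F = 4) (hD : IsMDecomposition 1 D) :
    ∃ (σ : F ≃+* F) (f : (Fin 4 → F) → (Fin 4 → F) → F), IsUnitaryForm σ f ∧
      decompositionStabilizer D ≤ similarityGroup f := by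
  obtain ⟨b, hb⟩ := exists_frame hD
  haveI : Fact (Nat.Prime 2) := ⟨Nat.prime_two⟩
  obtain ⟨p, hp⟩ := CharP.exists F
  obtain ⟨n, hpp, hn⟩ := FiniteField.card F p
  obtain rfl : p = 2 := by
    have h1 : p ∣ 2 ^ 2 := by
      rw [show (2 : ℕ) ^ 2 = Fintype.card F by rw [hq]; norm_num, hn]
      exact dvd_pow_self p n.ne_zero
    exact (Nat.prime_dvd_prime_iff_eq hpp Nat.prime_two).1 (hpp.dvd_of_dvd_pow h1)
  haveI : ExpChar F 2 := ExpChar.prime Nat.prime_two
  set σ : F ≃+* F := frobeniusEquiv F 2 with hσ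
  have hap : ∀ a : F, σ a = a ^ 2 := fun a => frobeniusEquiv_def F 2 a
  have hinv : ∀ a : F, σ (σ a) = a := fun a => by
    rw [hap, hap, ← pow_mul]
    simpa [hq] using FiniteField.pow_card a
  have hne : σ ≠ RingEquiv.refl F := by
    intro h
    have h1 : ∀ a : F, a = 0 ∨ a = 1 := fun a => by
      have := congrArg (fun e : F ≃+* F => e a) h
      simp only [hap, RingEquiv.refl_apply] at this
      exact (IsIdempotentElem.iff_eq_zero_or_one.1 (show IsIdempotentElem a by
        rw [IsIdempotentElem, ← pow_two]; exact this))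
    classical
    have : Fintype.card F ≤ ({0, 1} : Finset F).card := by
      rw [← Finset.card_univ]
      exact Finset.card_le_card fun a _ => by rcases h1 a with rfl | rfl <;> simp
    have h2 : ({0, 1} : Finset F).card ≤ 2 := Finset.card_le_two
    omega
  set f : (Fin 4 → F) → (Fin 4 → F) → F := fun u v => ∑ i, b.repr u i * σ (b.repr v i) with hf
  refine ⟨σ, f, ⟨hne, hinv, ?_, ?_, ?_, ?_⟩, fun g hg => ?_⟩
  · intro x y v
    simp only [hf, map_add, Finsupp.add_apply, add_mul, Finset.sum_add_distrib]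
  · intro c x v
    simp only [hf, map_smul, Finsupp.smul_apply, smul_eq_mul, Finset.mul_sum, mul_assoc]
  · intro v w
    simp only [hf, map_sum, map_mul, hinv]
    exact Finset.sum_congr rfl fun i _ => mul_comm _ _
  · intro v hv
    obtain ⟨i, hi⟩ : ∃ i, b.repr v i ≠ 0 := by
      by_contra hcon
      push Not at hcon
      exact hv (b.repr.injective (by ext i; simp [hcon i]))
    constructor <;> refine ⟨b i, ?_⟩ <;> simp only [hf] <;> rw [Finset.sum_eq_single i] <;>
      first
        | (simpa using hi)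
        | (intro j _ hj; simp [hj])
        | simp
  · obtain ⟨π, d, hd0, -, hrep⟩ := frame_mono hb hg
    refine ⟨1, fun u v => ?_⟩
    rw [Units.val_one, one_mul]
    simp only [hf]
    rw [← Equiv.sum_comp π]
    refine Finset.sum_congr rfl fun i _ => ?_
    have hd3 : d i * σ (d i) = 1 := by
      rw [hap, ← pow_succ']
      simpa [hq] using FiniteField.pow_card_sub_one_eq_one (d i) (hd0 i)
    rw [hrep, hrep, map_mul]
    linear_combination (b.repr u i * σ (b.repr v i)) * hd3

end Small

end Cfsg.Agent.Lib.SLFour
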