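import Mathlib
import Cfsg.Prelude.Def_GeometricClasses

/-!
Stabilisers of decompositions of a four-dimensional space over a field of order two or three into planes.
-/

set_option autoImplicit false
set_option maxHeartbeats 1000000

namespace Cfsg.Agent.Lib.SLFour

open Cfsg.Geo
open scoped Matrix

variable {F : Type*} [Field F]

/-- The alternating form pairing coordinates `0, 1` and `2, 3`. -/
noncomputable def pairForm (B : Module.Basis (Fin 4) F (Fin 4 → F)) (u v : Fin 4 → F) : F :=
  B.repr u 0 * B.repr v 1 - B.repr u 1 * B.repr v 0 +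
    (B.repr u 2 * B.repr v 3 - B.repr u 3 * B.repr v 2)

theorem isSymplectic_pairForm (B : Module.Basis (Fin 4) F (Fin 4 → F)) :
    IsSymplecticForm (pairForm B) := by
  refine ⟨⟨?_, ?_, ?_, ?_⟩, fun v w => by unfold pairForm; ring, fun v => by unfold pairForm; ring,
    fun v hv => ?_⟩
  all_goals try (intros; simp only [pairForm, map_add, map_smul, Finsupp.add_apply,
    Finsupp.smul_apply, smul_eq_mul]; ring)
  obtain ⟨i, hi⟩ : ∃ i, B.repr v i ≠ 0 := by
    by_contra hcon
    push Not at hcon
    exact hv (B.repr.injective (by ext i; simp [hcon i]))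
  fin_cases i
  · exact ⟨⟨B 1, by simpa [pairForm] using hi⟩, ⟨B 1, by simpa [pairForm] using hi⟩⟩
  · exact ⟨⟨B 0, by simpa [pairForm] using hi⟩, ⟨B 0, by simpa [pairForm] using hi⟩⟩
  · exact ⟨⟨B 3, by simpa [pairForm] using hi⟩, ⟨B 3, by simpa [pairForm] using hi⟩⟩
  · exact ⟨⟨B 2, by simpa [pairForm] using hi⟩, ⟨B 2, by simpa [pairForm] using hi⟩⟩

/-- A unit of a field of order two or three is its own inverse. -/
theorem sq_eq_one_of_card_lt_four [Fintype F] (hq : Fintype.card F < 4) {a : F} (ha : a ≠ 0) :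
    a * a = 1 := by
  have h1 := FiniteField.pow_card_sub_one_eq_one a ha
  have h2 : 1 < Fintype.card F := Fintype.one_lt_card
  interval_cases hc : Fintype.card F
  · norm_num at h1
    rw [h1, one_mul]
  · rwa [← pow_two]

theorem planes_le_symplectic [Fintype F] (hq : Fintype.card F < 4)
    {D : Fin 2 → Submodule F (Fin 4 → F)} (hD : IsMDecomposition 2 D) :
    ∃ f : (Fin 4 → F) → (Fin 4 → F) → F, IsSymplecticForm f ∧
      decompositionStabilizer D ⊓ specialLinear (Fin 4) F ≤ similarityGroup f := by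
  classical
  have hint : DirectSum.IsInternal D :=
    DirectSum.isInternal_submodule_of_iSupIndep_of_iSup_eq_top hD.indep hD.iSup_eq_top
  let bb : (i : Fin 2) → Module.Basis (Fin 2) F (D i) :=
    fun i => Module.finBasisOfFinrankEq F (D i) (hD.finrank_eq i)
  let e : (Σ _ : Fin 2, Fin 2) ≃ Fin 4 :=
    (Equiv.sigmaEquivProd (Fin 2) (Fin 2)).trans finProdFinEquiv
  let B := (hint.collectedBasis bb).reindex e
  let blk : Fin 4 → Fin 2 := ![0, 0, 1, 1]
  have hmem : ∀ j, B j ∈ D (blk j) := by
    intro j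
    have hB : B j = (bb (e.symm j).1 (e.symm j).2 : Fin 4 → F) := by
      simp [B, DirectSum.IsInternal.collectedBasis_coe]
    have hblk : blk j = (e.symm j).1 := by fin_cases j <;> decide
    rw [hB, hblk]
    exact Submodule.coe_mem _
  have hzero : ∀ (j : Fin 4) (i : Fin 2) (x : Fin 4 → F), x ∈ D i → blk j ≠ i → B.repr x j = 0 := by
    intro j i x hx hji
    have hblk : blk j = (e.symm j).1 := by fin_cases j <;> decide
    rw [Module.Basis.repr_reindex_apply]
    exact hint.collectedBasis_repr_of_mem_ne bb (hblk ▸ hji).symm hx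
  refine ⟨pairForm B, isSymplectic_pairForm B, fun g hg => ?_⟩
  obtain ⟨⟨σ, hσ⟩, hdet⟩ := hg
  set M := LinearMap.toMatrix B B (Matrix.toLin' (g : Matrix (Fin 4) (Fin 4) F)) with hM
  have hMz : ∀ i j, blk i ≠ σ (blk j) → M i j = 0 := by
    intro i j hij
    rw [hM, LinearMap.toMatrix_apply]
    refine hzero i (σ (blk j)) _ ?_ hij
    rw [← hσ (blk j)]
    exact Submodule.mem_map_of_mem (hmem j)
  have hMdet : M.det = 1 := by
    rw [hM, LinearMap.det_toMatrix, LinearMap.det_toLin']
    have := congrArg Units.val (MonoidHom.mem_ker.1 hdet)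
    simpa using this
  have hx : ∀ w i, B.repr ((g : Matrix (Fin 4) (Fin 4) F) *ᵥ w) i = ∑ j, M i j * B.repr w j := by
    intro w i
    rw [← Matrix.toLin'_apply, ← LinearMap.toMatrix_mulVec_repr B B]
    simp [hM, Matrix.mulVec, dotProduct]
  rw [Matrix.det_succ_row_zero] at hMdet
  simp only [Fin.sum_univ_four, Matrix.det_fin_three, Matrix.submatrix_apply] at hMdet
  rcases (show σ 0 = 0 ∨ σ 0 = 1 by omega) with h0 | h0
  · have h1 : σ 1 = 1 := by
      rcases (show σ 1 = 0 ∨ σ 1 = 1 by omega) with h | h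
      · exact absurd (σ.injective (h.trans h0.symm)) (by decide)
      · exact h
    have z : ∀ i j, blk i ≠ blk j → M i j = 0 := fun i j h => hMz i j (by
      rcases (show blk j = 0 ∨ blk j = 1 by omega) with e | e <;> rw [e] at h ⊢ <;>
        simpa [h0, h1] using h)
    simp [Fin.succAbove, z 0 2 (by decide), z 0 3 (by decide), z 1 2 (by decide), z 1 3 (by decide),
      z 2 0 (by decide), z 2 1 (by decide), z 3 0 (by decide), z 3 1 (by decide)] at hMdet
    set a := M 0 0 * M 1 1 - M 0 1 * M 1 0 with ha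
    set c := M 2 2 * M 3 3 - M 2 3 * M 3 2 with hc
    have hac : a * c = 1 := by rw [ha, hc]; linear_combination hMdet
    have ha0 : a ≠ 0 := left_ne_zero_of_mul_eq_one hac
    have hca : c = a := by
      linear_combination a * hac - c * sq_eq_one_of_card_lt_four hq ha0
    refine ⟨Units.mk0 a ha0, fun u v => ?_⟩
    simp only [Units.val_mk0, pairForm, hx, Fin.sum_univ_four, z 0 2 (by decide), z 0 3 (by decide),
      z 1 2 (by decide), z 1 3 (by decide), z 2 0 (by decide), z 2 1 (by decide), z 3 0 (by decide),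
      z 3 1 (by decide)]
    linear_combination (B.repr u 2 * B.repr v 3 - B.repr u 3 * B.repr v 2) * (hc.symm.trans hca) +
      (B.repr u 0 * B.repr v 1 - B.repr u 1 * B.repr v 0) * ha.symm
  · have h1 : σ 1 = 0 := by
      rcases (show σ 1 = 0 ∨ σ 1 = 1 by omega) with h | h
      · exact h
      · exact absurd (σ.injective (h.trans h0.symm)) (by decide)
    have z : ∀ i j, blk i = blk j → M i j = 0 := fun i j h => hMz i j (by
      rcases (show blk j = 0 ∨ blk j = 1 by omega) with e | e <;> rw [e] at h ⊢ <;> rw [h] <;>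
        simp [h0, h1])
    simp [Fin.succAbove, z 0 0 rfl, z 0 1 rfl, z 1 0 rfl, z 1 1 rfl, z 2 2 rfl, z 2 3 rfl,
      z 3 2 rfl, z 3 3 rfl] at hMdet
    set a := M 2 0 * M 3 1 - M 2 1 * M 3 0 with ha
    set c := M 0 2 * M 1 3 - M 0 3 * M 1 2 with hc
    have hac : a * c = 1 := by rw [ha, hc]; linear_combination hMdet
    have ha0 : a ≠ 0 := left_ne_zero_of_mul_eq_one hac
    have hca : c = a := by
      linear_combination a * hac - c * sq_eq_one_of_card_lt_four hq ha0
    refine ⟨Units.mk0 a ha0, fun u v => ?_⟩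
    simp only [Units.val_mk0, pairForm, hx, Fin.sum_univ_four, z 0 0 rfl, z 0 1 rfl, z 1 0 rfl,
      z 1 1 rfl, z 2 2 rfl, z 2 3 rfl, z 3 2 rfl, z 3 3 rfl]
    linear_combination (B.repr u 2 * B.repr v 3 - B.repr u 3 * B.repr v 2) * (hc.symm.trans hca) +
      (B.repr u 0 * B.repr v 1 - B.repr u 1 * B.repr v 0) * ha.symm

end Cfsg.Agent.Lib.SLFour
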